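/-
Recognising the generalized Fitting subgroup as a self-centralizing normal subgroup of prime power order.
-/
import Cfsg.Agent.Lib.Coprime.PConstrained

set_option autoImplicit false

namespace CfsgLib.Spor.Fi22Model

variable {H : Type*} [Group H] [Finite H] {p : ℕ}

theorem generalizedFitting_eq_of_selfCentralizing [hp : Fact p.Prime] (Q : Subgroup H) [Q.Normal]
    (hQ : IsPGroup p Q) (hC : Subgroup.centralizer (Q : Set H) ≤ Q)
    (hmax : ∀ R : Subgroup H, R.Normal → IsPGroup p R → R ≤ Q) :
    Cfsg.generalizedFittingSubgroup H = Q := by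
  have hcore : Cfsg.pCore p H = Q :=
    le_antisymm (sSup_le fun R hR => hmax R hR.1 hR.2) (Coprime.le_pCore hQ)
  have hprime : Cfsg.pPrimeCore p H = ⊥ := by
    have hcop := Coprime.pPrimeCore_coprime (G := H) hp.out
    haveI hn : (Cfsg.pPrimeCore p H).Normal := inferInstance
    have hd := Coprime.pPrime_inf_pGroup_eq_bot hcop hQ
    refine le_bot_iff.1 ?_
    rw [← hd]
    refine le_inf le_rfl (le_trans ?_ hC)
    intro x hx
    refine Subgroup.mem_centralizer_iff.2 fun q hq => ?_
    exact (Subgroup.commute_of_normal_of_disjoint _ _ hn inferInstance (disjoint_iff.2 hd) x q hx hq).eq.symm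
  have hlayer : Cfsg.layer H = ⊥ := (Coprime.layer_eq_bot_iff_centralizer_pCore_le hprime).2 (by rw [hcore]; exact hC)
  rw [Cfsg.generalizedFittingSubgroup, hlayer, bot_sup_eq,
    Coprime.fitting_eq_pCore_of_pPrimeCore_eq_bot hprime, hcore]

end CfsgLib.Spor.Fi22Model
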